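import Mathlib

/-!
# Separating families and base change to a union of finitely generated subalgebras (ring level)
-/

set_option autoImplicit false
universe u

open TensorProduct

namespace Groth.Agent.Lib.Helper73.SepLim

section Pres

variable {A A' : Type u} (R R' : Type u) {L : Type u} [CommRing A] [CommRing A'] [CommRing R]
  [CommRing R'] [CommRing L]
  [Algebra A A'] [Algebra A R] [Algebra A R'] [Algebra A' R'] [Algebra R R']
  [IsScalarTower A A' R'] [IsScalarTower A R R']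
  [Algebra R' L] [Algebra R L] [IsScalarTower R R' L]
  (f : R')
  {M : Type u} [AddCommGroup M] [Module R M]

/-- sub-`R`-algebra of `R'` generated by the image of `B₀ ⊆ A'`. -/
def T (B₀ : Subalgebra A A') : Subalgebra R R' :=
  Algebra.adjoin R ((algebraMap A' R') '' (B₀ : Set A'))

theorem T_mono {B₀ B₁ : Subalgebra A A'} (h : B₀ ≤ B₁) : T R R' B₀ ≤ T R R' B₁ :=
  Algebra.adjoin_mono (Set.image_mono h)

theorem exists_fg_mem_T [Algebra.IsPushout A A' R R'] (x : R') :
    ∃ S : Finset A', x ∈ T R R' (Algebra.adjoin A (S : Set A')) := by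
  classical
  obtain ⟨y, rfl⟩ := (Algebra.IsPushout.equiv A A' R R').surjective x
  induction y using TensorProduct.induction_on with
  | zero => exact ⟨∅, by rw [map_zero]; exact zero_mem _⟩
  | tmul a r =>
    refine ⟨{a}, ?_⟩
    rw [Algebra.IsPushout.equiv_tmul]
    refine mul_mem (Algebra.subset_adjoin ⟨a, Algebra.subset_adjoin (by simp), rfl⟩) ?_
    exact Subalgebra.algebraMap_mem _ r
  | add y z hy hz =>
    obtain ⟨S₁, h₁⟩ := hy
    obtain ⟨S₂, h₂⟩ := hz
    refine ⟨S₁ ∪ S₂, ?_⟩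
    rw [map_add]
    exact add_mem (T_mono R R' (Algebra.adjoin_mono (by simp)) h₁)
      (T_mono R R' (Algebra.adjoin_mono (by simp)) h₂)

variable {R'}

/-- elements of the localization `L = R'_f` with numerator in `T B₀`. -/
def Lgood (B₀ : Subalgebra A A') : Set L :=
  {l | ∃ (n : ℕ) (r' : R'), r' ∈ T R R' B₀ ∧ l * algebraMap R' L f ^ n = algebraMap R' L r'}

theorem Lgood_mono {B₀ B₁ : Subalgebra A A'} (h : B₀ ≤ B₁) :
    Lgood R (L := L) f B₀ ⊆ Lgood R (L := L) f B₁ := by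
  rintro l ⟨n, r', hr', hl⟩
  exact ⟨n, r', T_mono R R' h hr', hl⟩

theorem exists_fg_mem_Lgood [Algebra.IsPushout A A' R R'] [IsLocalization.Away f L] (l : L) :
    ∃ S : Finset A', l ∈ Lgood R (L := L) f (Algebra.adjoin A (S : Set A')) := by
  obtain ⟨n, r', h⟩ := IsLocalization.Away.surj f l
  obtain ⟨S, hS⟩ := exists_fg_mem_T (A := A) (A' := A') R R' r'
  exact ⟨S, n, r', hS, h⟩

variable (M) in
/-- tensors generated by good pure tensors. -/
def Pred (B₀ : Subalgebra A A') : AddSubgroup (L ⊗[R] M) :=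
  AddSubgroup.closure {τ | ∃ l ∈ Lgood R (L := L) f B₀, ∃ m : M, τ = l ⊗ₜ m}

theorem Pred_mono {B₀ B₁ : Subalgebra A A'} (h : B₀ ≤ B₁) :
    Pred R (L := L) f M B₀ ≤ Pred R (L := L) f M B₁ := by
  apply AddSubgroup.closure_mono
  rintro τ ⟨l, hl, m, rfl⟩
  exact ⟨l, Lgood_mono R f h hl, m, rfl⟩

theorem exists_fg_mem_Pred [Algebra.IsPushout A A' R R'] [IsLocalization.Away f L]
    (τ : L ⊗[R] M) :
    ∃ S : Finset A', τ ∈ Pred R (L := L) f M (Algebra.adjoin A (S : Set A')) := by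
  classical
  induction τ using TensorProduct.induction_on with
  | zero => exact ⟨∅, zero_mem _⟩
  | tmul l m =>
    obtain ⟨S, hS⟩ := exists_fg_mem_Lgood (A := A) (A' := A') R f l
    exact ⟨S, AddSubgroup.subset_closure ⟨l, hS, m, rfl⟩⟩
  | add y z hy hz =>
    obtain ⟨S₁, h₁⟩ := hy
    obtain ⟨S₂, h₂⟩ := hz
    refine ⟨S₁ ∪ S₂, ?_⟩
    exact add_mem (Pred_mono R f (Algebra.adjoin_mono (by simp)) h₁)
      (Pred_mono R f (Algebra.adjoin_mono (by simp)) h₂)

/-- finite data for `f` and `τ` simultaneously. -/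
theorem exists_fg [Algebra.IsPushout A A' R R'] [IsLocalization.Away f L] (τ : L ⊗[R] M) :
    ∃ S : Finset A', f ∈ T R R' (Algebra.adjoin A (S : Set A')) ∧
      τ ∈ Pred R (L := L) f M (Algebra.adjoin A (S : Set A')) := by
  classical
  obtain ⟨S₁, h₁⟩ := exists_fg_mem_T (A := A) (A' := A') R R' f
  obtain ⟨S₂, h₂⟩ := exists_fg_mem_Pred (A := A) (A' := A') R f τ
  exact ⟨S₁ ∪ S₂, T_mono R R' (Algebra.adjoin_mono (by simp)) h₁,
    Pred_mono R f (Algebra.adjoin_mono (by simp)) h₂⟩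

omit [IsScalarTower A A' R'] [IsScalarTower A R R'] in
theorem T_le_range {B₀ : Subalgebra A A'} {R_B : Type u} [CommRing R_B] [Algebra R R_B]
    (θ : R_B →ₐ[R] R') (hT : ∀ a ∈ B₀, algebraMap A' R' a ∈ θ.range) :
    T R R' B₀ ≤ θ.range :=
  Algebra.adjoin_le (by
    rintro _ ⟨a, ha, rfl⟩
    exact hT a ha)

theorem mem_range_of_mem_Pred [IsLocalization.Away f L] {B₀ : Subalgebra A A'}
    {R_B L_B : Type u} [CommRing R_B] [CommRing L_B]
    [Algebra R R_B] [Algebra R_B L_B] [Algebra R L_B] [IsScalarTower R R_B L_B]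
    (θ : R_B →ₐ[R] R') (ψ : L_B →ₐ[R] L)
    (hψ : ∀ x : R_B, ψ (algebraMap R_B L_B x) = algebraMap R' L (θ x))
    (hT : ∀ a ∈ B₀, algebraMap A' R' a ∈ θ.range)
    (f_B : R_B) (hf : θ f_B = f) (hu : IsUnit (algebraMap R_B L_B f_B))
    (τ : L ⊗[R] M) (hτ : τ ∈ Pred R (L := L) f M B₀) :
    τ ∈ LinearMap.range (LinearMap.rTensor M ψ.toLinearMap) := by
  have hT' : T R R' B₀ ≤ θ.range := Algebra.adjoin_le (by
    rintro _ ⟨a, ha, rfl⟩
    exact hT a ha)
  refine AddSubgroup.closure_induction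
    (p := fun τ _ => τ ∈ LinearMap.range (LinearMap.rTensor M ψ.toLinearMap)) ?_ ?_ ?_ ?_ hτ
  · rintro _ ⟨l, ⟨n, r', hr', hl⟩, m, rfl⟩
    obtain ⟨r_B, rfl⟩ := hT' hr'
    refine ⟨(algebraMap R_B L_B r_B * ((hu.unit⁻¹ : L_Bˣ) : L_B) ^ n) ⊗ₜ m, ?_⟩
    rw [LinearMap.rTensor_tmul]
    congr 1
    have hfu : IsUnit (algebraMap R' L f) := IsLocalization.Away.algebraMap_isUnit f
    apply (hfu.pow n).mul_left_injective
    change ψ (algebraMap R_B L_B r_B * ((hu.unit⁻¹ : L_Bˣ) : L_B) ^ n) * algebraMap R' L f ^ n =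
      l * algebraMap R' L f ^ n
    calc ψ (algebraMap R_B L_B r_B * ((hu.unit⁻¹ : L_Bˣ) : L_B) ^ n) * algebraMap R' L f ^ n
        = ψ (algebraMap R_B L_B r_B * ((hu.unit⁻¹ : L_Bˣ) : L_B) ^ n) *
            ψ (algebraMap R_B L_B f_B) ^ n := by rw [hψ, hf]
      _ = ψ (algebraMap R_B L_B r_B *
            (((hu.unit⁻¹ : L_Bˣ) : L_B) ^ n * algebraMap R_B L_B f_B ^ n)) := by
          rw [← map_pow, ← map_mul, mul_assoc]
      _ = ψ (algebraMap R_B L_B r_B) := by
          rw [← mul_pow, IsUnit.val_inv_mul, one_pow, mul_one]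
      _ = algebraMap R' L (θ r_B) := hψ _
      _ = l * algebraMap R' L f ^ n := hl.symm
  · exact zero_mem _
  · intro x y _ _ hx hy
    exact add_mem hx hy
  · intro x _ hx
    exact neg_mem hx

end Pres

section Inj

theorem rTensor_injective_of_isPushout {B A' R L_B L : Type u} [CommRing B] [CommRing A']
    [CommRing R] [CommRing L_B] [CommRing L]
    [Algebra B A'] [Algebra B L_B] [Algebra B L] [Algebra A' L] [Algebra L_B L]
    [IsScalarTower B L_B L] [IsScalarTower B A' L] [Algebra.IsPushout B A' L_B L]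
    [Algebra R L_B] [Algebra R L] [IsScalarTower R L_B L]
    (hinj : Function.Injective (algebraMap B A'))
    (N : Type u) [AddCommGroup N] [Module R N]
    [Module.Flat B (L_B ⊗[R] N)] :
    Function.Injective (LinearMap.rTensor N (IsScalarTower.toAlgHom R L_B L).toLinearMap) := by
  rw [injective_iff_map_eq_zero]
  intro x hx
  let e1 := TensorProduct.AlgebraTensorModule.cancelBaseChange R L_B L L N
  let e2 := Algebra.IsPushout.cancelBaseChange B A' L_B L (L_B ⊗[R] N)
  have h1 : ∀ x : L_B ⊗[R] N, e1 ((1 : L) ⊗ₜ[L_B] x) =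
      LinearMap.rTensor N (IsScalarTower.toAlgHom R L_B L).toLinearMap x := by
    intro x
    induction x using TensorProduct.induction_on with
    | zero => simp
    | tmul l n => simp [e1, Algebra.smul_def]
    | add a b ha hb => simp only [tmul_add, map_add, ha, hb]
  have h2 : (1 : L) ⊗ₜ[L_B] x = 0 := by
    apply e1.injective
    rw [h1, hx, map_zero]
  have h3 : (1 : A') ⊗ₜ[B] x = 0 := by
    have := Algebra.IsPushout.cancelBaseChange_tmul B A' L_B L (L_B ⊗[R] N) x
    rw [h2, map_zero] at this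
    exact this.symm
  have h4 : Function.Injective (LinearMap.rTensor (L_B ⊗[R] N) (Algebra.linearMap B A')) :=
    Module.Flat.rTensor_preserves_injective_linearMap _ hinj
  have h5 : LinearMap.rTensor (L_B ⊗[R] N) (Algebra.linearMap B A') ((1 : B) ⊗ₜ x) = 0 := by
    rw [LinearMap.rTensor_tmul, Algebra.linearMap_apply, map_one, h3]
  have h6 := h4 (h5.trans (map_zero _).symm)
  have := congrArg (TensorProduct.lid B (L_B ⊗[R] N)) h6
  simpa using this

end Inj

end Groth.Agent.Lib.Helper73.SepLim
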