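import Groth.Agent.Lib.Helper73.SepNil.Bridge

/-!
# Sections of `X ×_{Spec A} Spec C` over `fst⁻¹ U`, and transition maps between levels
-/

set_option autoImplicit false
set_option linter.style.haveILetI false
universe u

open AlgebraicGeometry CategoryTheory Opposite TopologicalSpace

namespace Groth.Agent.Lib.Helper73.SepLim

variable {X : Scheme.{u}} {A : CommRingCat.{u}} (p : X ⟶ Spec A)

theorem ΓSpecIso_inv_appLE_top {B C : CommRingCat.{u}} (b : B ⟶ C)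
    (e' : (⊤ : (Spec C).Opens) ≤ (Spec.map b) ⁻¹ᵁ ⊤) :
    (Scheme.ΓSpecIso B).inv ≫ (Spec.map b).appLE ⊤ ⊤ e' = b ≫ (Scheme.ΓSpecIso C).inv := by
  rw [Scheme.ΓSpecIso_inv_naturality]
  congr 1

theorem isAffineOpen_level {C : CommRingCat.{u}} (γ : A ⟶ C) {U : X.Opens} (hU : IsAffineOpen U) :
    IsAffineOpen (Limits.pullback.fst p (Spec.map γ) ⁻¹ᵁ U ⊓
      Limits.pullback.snd p (Spec.map γ) ⁻¹ᵁ ⊤) := by
  have e : U ≤ p ⁻¹ᵁ ⊤ := le_top
  have e' : (⊤ : (Spec C).Opens) ≤ (Spec.map γ) ⁻¹ᵁ ⊤ := fun _ _ => trivial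
  have H : IsPullback (Limits.pullback.fst p (Spec.map γ)) (Limits.pullback.snd p (Spec.map γ)) p
    (Spec.map γ) := IsPullback.of_hasPullback p _
  have : IsAffine (⊤ : (Spec A).Opens) := isAffineOpen_top _
  have : IsAffine (⊤ : (Spec C).Opens) := isAffineOpen_top _
  have : IsAffine U := hU
  exact .of_isIso (Scheme.Hom.isPullback_resLE H e' e rfl).isoPullback.hom

theorem isPushout_level {C : CommRingCat.{u}} (γ : A ⟶ C) {U : X.Opens} (hU : IsAffineOpen U) :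
    IsPushout ((Scheme.ΓSpecIso A).inv ≫ p.appLE ⊤ U le_top) γ
      ((Limits.pullback.fst p (Spec.map γ)).appLE U
        (Limits.pullback.fst p (Spec.map γ) ⁻¹ᵁ U ⊓ Limits.pullback.snd p (Spec.map γ) ⁻¹ᵁ ⊤)
        inf_le_left)
      ((Scheme.ΓSpecIso C).inv ≫ (Limits.pullback.snd p (Spec.map γ)).appLE ⊤
        (Limits.pullback.fst p (Spec.map γ) ⁻¹ᵁ U ⊓ Limits.pullback.snd p (Spec.map γ) ⁻¹ᵁ ⊤)
        inf_le_right) := by
  have e : U ≤ p ⁻¹ᵁ ⊤ := le_top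
  have e' : (⊤ : (Spec C).Opens) ≤ (Spec.map γ) ⁻¹ᵁ ⊤ := fun _ _ => trivial
  have H : IsPullback (Limits.pullback.fst p (Spec.map γ)) (Limits.pullback.snd p (Spec.map γ)) p
    (Spec.map γ) := IsPullback.of_hasPullback p _
  have hpush := (isIso_pushoutSection_iff H e' e rfl).mp
    (isIso_pushoutSection_of_isAffineOpen H e' e rfl (isAffineOpen_top _) (isAffineOpen_top _) hU)
  have sq : CategoryTheory.CommSq (Scheme.ΓSpecIso A).inv γ
      ((Spec.map γ).appLE ⊤ ⊤ e') (Scheme.ΓSpecIso C).inv :=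
    ⟨ΓSpecIso_inv_appLE_top γ e'⟩
  exact (IsPushout.of_horiz_isIso sq).paste_horiz hpush

section Transition

variable {A' B : CommRingCat.{u}} (φ : A ⟶ A') (a : A ⟶ B) (b : B ⟶ A') (hab : a ≫ b = φ)

/-- the transition map `X ×_A A' ⟶ X ×_A B`. -/
noncomputable def trans : Limits.pullback p (Spec.map φ) ⟶ Limits.pullback p (Spec.map a) :=
  Limits.pullback.lift (Limits.pullback.fst p (Spec.map φ))
    (Limits.pullback.snd p (Spec.map φ) ≫ Spec.map b) (by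
      rw [Category.assoc, ← Spec.map_comp, hab, Limits.pullback.condition])

@[reassoc (attr := simp)]
theorem trans_fst : trans p φ a b hab ≫ Limits.pullback.fst p (Spec.map a) =
    Limits.pullback.fst p (Spec.map φ) := Limits.pullback.lift_fst _ _ _

@[reassoc (attr := simp)]
theorem trans_snd : trans p φ a b hab ≫ Limits.pullback.snd p (Spec.map a) =
    Limits.pullback.snd p (Spec.map φ) ≫ Spec.map b := Limits.pullback.lift_snd _ _ _

theorem isPullback_trans : IsPullback (trans p φ a b hab) (Limits.pullback.snd p (Spec.map φ))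
    (Limits.pullback.snd p (Spec.map a)) (Spec.map b) := by
  refine IsPullback.of_right ?_ (trans_snd p φ a b hab)
    (IsPullback.of_hasPullback p (Spec.map a))
  rw [trans_fst, ← Spec.map_comp, hab]
  exact IsPullback.of_hasPullback p (Spec.map φ)

theorem preimage_level (U : X.Opens) :
    trans p φ a b hab ⁻¹ᵁ (Limits.pullback.fst p (Spec.map a) ⁻¹ᵁ U ⊓
      Limits.pullback.snd p (Spec.map a) ⁻¹ᵁ ⊤) =
    Limits.pullback.fst p (Spec.map φ) ⁻¹ᵁ U ⊓ Limits.pullback.snd p (Spec.map φ) ⁻¹ᵁ ⊤ := by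
  rw [Scheme.Hom.preimage_inf, ← Scheme.Hom.comp_preimage, trans_fst]
  rfl

theorem trans_appLE_fst (U : X.Opens) (WB : (Limits.pullback p (Spec.map a)).Opens)
    (W' : (Limits.pullback p (Spec.map φ)).Opens)
    (e₁ : WB ≤ Limits.pullback.fst p (Spec.map a) ⁻¹ᵁ U) (e₂ : W' ≤ trans p φ a b hab ⁻¹ᵁ WB)
    (e₃ : W' ≤ Limits.pullback.fst p (Spec.map φ) ⁻¹ᵁ U) :
    (Limits.pullback.fst p (Spec.map a)).appLE U WB e₁ ≫ (trans p φ a b hab).appLE WB W' e₂ =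
      (Limits.pullback.fst p (Spec.map φ)).appLE U W' e₃ := by
  rw [Scheme.Hom.appLE_comp_appLE]
  simp only [trans_fst]

theorem trans_appLE_snd (WB : (Limits.pullback p (Spec.map a)).Opens)
    (W' : (Limits.pullback p (Spec.map φ)).Opens)
    (e₁ : WB ≤ Limits.pullback.snd p (Spec.map a) ⁻¹ᵁ ⊤) (e₂ : W' ≤ trans p φ a b hab ⁻¹ᵁ WB)
    (e₃ : W' ≤ Limits.pullback.snd p (Spec.map φ) ⁻¹ᵁ ⊤)
    (e₄ : (⊤ : (Spec A').Opens) ≤ (Spec.map b) ⁻¹ᵁ ⊤) :
    (Limits.pullback.snd p (Spec.map a)).appLE ⊤ WB e₁ ≫ (trans p φ a b hab).appLE WB W' e₂ =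
      (Spec.map b).appLE ⊤ ⊤ e₄ ≫ (Limits.pullback.snd p (Spec.map φ)).appLE ⊤ W' e₃ := by
  rw [Scheme.Hom.appLE_comp_appLE, Scheme.Hom.appLE_comp_appLE]
  simp only [trans_snd]

theorem trans_appLE_snd' (WB : (Limits.pullback p (Spec.map a)).Opens)
    (W' : (Limits.pullback p (Spec.map φ)).Opens)
    (e₁ : WB ≤ Limits.pullback.snd p (Spec.map a) ⁻¹ᵁ ⊤) (e₂ : W' ≤ trans p φ a b hab ⁻¹ᵁ WB)
    (e₃ : W' ≤ Limits.pullback.snd p (Spec.map φ) ⁻¹ᵁ ⊤) :
    ((Scheme.ΓSpecIso B).inv ≫ (Limits.pullback.snd p (Spec.map a)).appLE ⊤ WB e₁) ≫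
        (trans p φ a b hab).appLE WB W' e₂ =
      b ≫ (Scheme.ΓSpecIso A').inv ≫ (Limits.pullback.snd p (Spec.map φ)).appLE ⊤ W' e₃ := by
  have e₄ : (⊤ : (Spec A').Opens) ≤ (Spec.map b) ⁻¹ᵁ ⊤ := fun _ _ => trivial
  rw [Category.assoc, trans_appLE_snd p φ a b hab WB W' e₁ e₂ e₃ e₄,
    ← Category.assoc, ΓSpecIso_inv_appLE_top b e₄, Category.assoc]

end Transition

end Groth.Agent.Lib.Helper73.SepLim
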