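import Groth.Agent.Lib.Helper73.SepLim.Ring
import Groth.Agent.Lib.Helper73.SepLim.Level

/-!
# Separating families: base change to a union of finitely generated subalgebras (scheme level)
-/

set_option autoImplicit false
set_option linter.style.haveILetI false
universe u

open AlgebraicGeometry CategoryTheory Opposite TopologicalSpace

namespace Groth.Agent.Lib.Helper73.SepLim

open Scheme.Modules TensorProduct Groth.Agent.Lib.Lead.PullbackAff Groth.Agent.Lib.Lead.QCohAff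
  Groth.Agent.Lib.Helper21.QCohSections Groth.Agent.Lib.Helper21.PullNat

variable {X : Scheme.{u}} (A A' : CommRingCat.{u}) (φ : A ⟶ A') (p : X ⟶ Spec A)

local notation "X'" => Limits.pullback p (Spec.map φ)
local notation "fst'" => Limits.pullback.fst p (Spec.map φ)
local notation "snd'" => Limits.pullback.snd p (Spec.map φ)

set_option maxRecDepth 8000 in
theorem separating_baseChange_of_fg (F : X.Modules) [F.IsQuasicoherent] {ι : Type u}
    (G : ι → X.Modules) [∀ i, (G i).IsQuasicoherent]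
    (hG : ∀ i, FlatMod.IsFlatOver p (G i)) (u : ∀ i, F ⟶ G i)
    (hfg : ∀ (B : CommRingCat.{u}) (a : A ⟶ B) (b : B ⟶ A'), a ≫ b = φ →
      Function.Injective b.hom → a.hom.FiniteType →
      ∀ (V : (Limits.pullback p (Spec.map a)).Opens)
        (t : Γ((Scheme.Modules.pullback (Limits.pullback.fst p (Spec.map a))).obj F, V)),
        (∀ i, ((Scheme.Modules.pullback (Limits.pullback.fst p (Spec.map a))).map (u i)).app V t
          = 0) → t = 0)
    (V : (X').Opens)
    (t : Γ((Scheme.Modules.pullback fst').obj F, V))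
    (ht : ∀ i, ((Scheme.Modules.pullback fst').map (u i)).app V t = 0) : t = 0 := by
  apply TopCat.Presheaf.IsSheaf.section_ext
    ((Scheme.Modules.pullback fst').obj F).isSheaf (U := op V)
  intro x hx
  replace hx : x ∈ V := hx
  obtain ⟨U, hU, hxU, -⟩ := exists_isAffineOpen_mem_and_subset (U := (⊤ : X.Opens))
    (x := fst' x) trivial
  have hxW' : x ∈ fst' ⁻¹ᵁ U ⊓ snd' ⁻¹ᵁ ⊤ := ⟨hxU, trivial⟩
  have hW'U : fst' ⁻¹ᵁ U ⊓ snd' ⁻¹ᵁ ⊤ ≤ fst' ⁻¹ᵁ U := inf_le_left
  have hW'T : fst' ⁻¹ᵁ U ⊓ snd' ⁻¹ᵁ ⊤ ≤ snd' ⁻¹ᵁ ⊤ := inf_le_right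
  have hP := isPushout_level p φ hU
  have hW' : IsAffineOpen (fst' ⁻¹ᵁ U ⊓ snd' ⁻¹ᵁ ⊤) := isAffineOpen_level p φ hU
  set W' := fst' ⁻¹ᵁ U ⊓ snd' ⁻¹ᵁ ⊤ with hW'def
  obtain ⟨f, hfV, hxf⟩ := hW'.exists_basicOpen_le ⟨x, hx⟩ hxW'
  have hD : IsAffineOpen ((X').basicOpen f) := hW'.basicOpen f
  have hloc : IsLocalization.Away f Γ(X', (X').basicOpen f) := hW'.isLocalization_basicOpen f
  have hDW : (X').basicOpen f ≤ W' := (X').basicOpen_le f
  set D' := (X').basicOpen f with hD'def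
  refine ⟨D', hfV, hxf, ?_⟩
  rw [map_zero]
  have eD : D' ≤ fst' ⁻¹ᵁ U := hDW.trans hW'U
  -- the section in ring terms
  letI algRL : Algebra Γ(X, U) Γ(X', D') := (Scheme.Hom.appLE fst' U D' eD).hom.toAlgebra
  apply (sectionsPullbackEquiv fst' F hD hU eD).injective
  rw [map_zero]
  have hτ : ∀ i, LinearMap.lTensor Γ(X', D') (appL (u i) U)
      (sectionsPullbackEquiv fst' F hD hU eD
        (((Scheme.Modules.pullback fst').obj F).presheaf.map (homOfLE hfV).op t)) = 0 := by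
    intro i
    rw [← sectionsPullbackEquiv_naturality, Groth.Agent.Lib.Helper2.KerSec.naturality_apply, ht,
      map_zero, map_zero]
  generalize sectionsPullbackEquiv fst' F hD hU eD
    (((Scheme.Modules.pullback fst').obj F).presheaf.map (homOfLE hfV).op t) = τ at hτ ⊢
  -- algebra structures at the level A'
  letI algAA' : Algebra ↑A ↑A' := φ.hom.toAlgebra
  letI algAR : Algebra ↑A Γ(X, U) := ((Scheme.ΓSpecIso A).inv ≫ p.appLE ⊤ U le_top).hom.toAlgebra
  letI algRR' : Algebra Γ(X, U) Γ(X', W') := (Scheme.Hom.appLE fst' U W' hW'U).hom.toAlgebra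
  letI algA'R' : Algebra ↑A' Γ(X', W') :=
    ((Scheme.ΓSpecIso A').inv ≫ Scheme.Hom.appLE snd' ⊤ W' hW'T).hom.toAlgebra
  letI algAR' : Algebra ↑A Γ(X', W') :=
    ((algebraMap Γ(X, U) Γ(X', W')).comp (algebraMap ↑A Γ(X, U))).toAlgebra
  haveI t1 : IsScalarTower ↑A Γ(X, U) Γ(X', W') := IsScalarTower.of_algebraMap_eq' rfl
  haveI t2 : IsScalarTower ↑A ↑A' Γ(X', W') :=
    IsScalarTower.of_algebraMap_eq' (congrArg CommRingCat.Hom.hom hP.w)
  haveI hPA : Algebra.IsPushout ↑A ↑A' Γ(X, U) Γ(X', W') := by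
    apply Algebra.IsPushout.symm
    exact CommRingCat.isPushout_iff_isPushout.mp hP
  letI algR'L : Algebra Γ(X', W') Γ(X', D') :=
    ((X').presheaf.map (homOfLE hDW).op).hom.toAlgebra
  haveI t3 : IsScalarTower Γ(X, U) Γ(X', W') Γ(X', D') := IsScalarTower.of_algebraMap_eq' (by
    change (Scheme.Hom.appLE fst' U D' eD).hom =
      ((X').presheaf.map (homOfLE hDW).op).hom.comp (Scheme.Hom.appLE fst' U W' hW'U).hom
    rw [← CommRingCat.hom_comp, Scheme.Hom.appLE_map])
  haveI hloc' : IsLocalization.Away f Γ(X', D') := hloc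
  obtain ⟨S, hfS, hτS⟩ := exists_fg (A := ↑A) (A' := ↑A') Γ(X, U) f τ
  classical
  obtain ⟨B, a, b, hab, hb, ha, hBS⟩ : ∃ (B : CommRingCat.{u}) (a : A ⟶ B) (b : B ⟶ A'),
      a ≫ b = φ ∧ Function.Injective b.hom ∧ a.hom.FiniteType ∧
      ∀ a' ∈ Algebra.adjoin ↑A (S : Set ↑A'), ∃ y : ↑B, b.hom y = a' := by
    refine ⟨CommRingCat.of (Algebra.adjoin ↑A (S : Set ↑A')),
      CommRingCat.ofHom (algebraMap ↑A (Algebra.adjoin ↑A (S : Set ↑A'))),
      CommRingCat.ofHom (Algebra.adjoin ↑A (S : Set ↑A')).val.toRingHom, ?_, ?_, ?_, ?_⟩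
    · ext r; rfl
    · exact Subtype.val_injective
    · exact RingHom.finiteType_algebraMap.2
        ((Subalgebra.fg_iff_finiteType _).1 (Subalgebra.fg_adjoin_finset S))
    · intro a' ha'; exact ⟨⟨a', ha'⟩, rfl⟩
  have key := hfg B a b hab hb ha
  have hWB : IsAffineOpen (Limits.pullback.fst p (Spec.map a) ⁻¹ᵁ U ⊓
      Limits.pullback.snd p (Spec.map a) ⁻¹ᵁ ⊤) := isAffineOpen_level p a hU
  have hWceq : trans p φ a b hab ⁻¹ᵁ (Limits.pullback.fst p (Spec.map a) ⁻¹ᵁ U ⊓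
      Limits.pullback.snd p (Spec.map a) ⁻¹ᵁ ⊤) = W' := preimage_level p φ a b hab U
  have hWBU : Limits.pullback.fst p (Spec.map a) ⁻¹ᵁ U ⊓
      Limits.pullback.snd p (Spec.map a) ⁻¹ᵁ ⊤ ≤ Limits.pullback.fst p (Spec.map a) ⁻¹ᵁ U :=
    inf_le_left
  have hWBT : Limits.pullback.fst p (Spec.map a) ⁻¹ᵁ U ⊓
      Limits.pullback.snd p (Spec.map a) ⁻¹ᵁ ⊤ ≤ Limits.pullback.snd p (Spec.map a) ⁻¹ᵁ ⊤ :=
    inf_le_right
  set fstB := Limits.pullback.fst p (Spec.map a) with hfstB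
  set sndB := Limits.pullback.snd p (Spec.map a) with hsndB
  set WB := fstB ⁻¹ᵁ U ⊓ sndB ⁻¹ᵁ ⊤ with hWBdef
  have hWc : W' ≤ trans p φ a b hab ⁻¹ᵁ WB := le_of_eq hWceq.symm
  -- `θ`
  letI algRRB : Algebra Γ(X, U) Γ(Limits.pullback p (Spec.map a), WB) :=
    (fstB.appLE U WB hWBU).hom.toAlgebra
  let θ : Γ(Limits.pullback p (Spec.map a), WB) →ₐ[Γ(X, U)] Γ(X', W') :=
    { toRingHom := ((trans p φ a b hab).appLE WB W' hWc).hom
      commutes' := fun r => congr($(trans_appLE_fst p φ a b hab U WB W' hWBU hWc hW'U) r) }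
  have hT : ∀ a' ∈ Algebra.adjoin ↑A (S : Set ↑A'), algebraMap ↑A' Γ(X', W') a' ∈ θ.range := by
    intro a' ha'
    obtain ⟨y, rfl⟩ := hBS a' ha'
    refine ⟨((Scheme.ΓSpecIso B).inv ≫ sndB.appLE ⊤ WB hWBT) y, ?_⟩
    exact congr($(trans_appLE_snd' p φ a b hab WB W' hWBT hWc hW'T) y)
  obtain ⟨fB, hfB⟩ := T_le_range Γ(X, U) θ hT hfS
  replace hfB : ((trans p φ a b hab).appLE WB W' hWc) fB = f := hfB
  -- basic opens at the level `B`
  have hDB : IsAffineOpen ((Limits.pullback p (Spec.map a)).basicOpen fB) := hWB.basicOpen fB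
  have hlocB : IsLocalization.Away fB
      Γ(Limits.pullback p (Spec.map a), (Limits.pullback p (Spec.map a)).basicOpen fB) :=
    hWB.isLocalization_basicOpen fB
  have hDBW : (Limits.pullback p (Spec.map a)).basicOpen fB ≤ WB :=
    (Limits.pullback p (Spec.map a)).basicOpen_le fB
  have hD'eq : D' = W' ⊓ trans p φ a b hab ⁻¹ᵁ (Limits.pullback p (Spec.map a)).basicOpen fB := by
    rw [hD'def, ← hfB, Scheme.basicOpen_appLE]
  set DB := (Limits.pullback p (Spec.map a)).basicOpen fB with hDBdef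
  have hDc : D' ≤ trans p φ a b hab ⁻¹ᵁ DB := by
    rw [hD'eq]; exact inf_le_right
  have hDeq : D' = trans p φ a b hab ⁻¹ᵁ DB ⊓ snd' ⁻¹ᵁ ⊤ := by
    apply le_antisymm
    · exact le_inf hDc (hDW.trans hW'T)
    · rw [hD'eq]
      refine le_inf ?_ inf_le_left
      intro y hy
      rw [← hWceq]
      exact hDBW hy.1
  have e'b : (⊤ : (Spec A').Opens) ≤ (Spec.map b) ⁻¹ᵁ ⊤ := fun _ _ => trivial
  have eDBT : DB ≤ sndB ⁻¹ᵁ ⊤ := fun _ _ => trivial
  have eDT : D' ≤ snd' ⁻¹ᵁ ⊤ := fun _ _ => trivial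
  have eDB : DB ≤ fstB ⁻¹ᵁ U := hDBW.trans hWBU
  have hpushD := (isIso_pushoutSection_iff (isPullback_trans p φ a b hab) e'b eDBT hDeq).mp
    (isIso_pushoutSection_of_isAffineOpen (isPullback_trans p φ a b hab) e'b eDBT hDeq
      (isAffineOpen_top _) (isAffineOpen_top _) hDB)
  -- algebra structures for the pushout at the level of basic opens
  letI algB1A1 : Algebra Γ(Spec B, ⊤) Γ(Spec A', ⊤) :=
    ((Spec.map b).appLE ⊤ ⊤ e'b).hom.toAlgebra
  letI algB1LB : Algebra Γ(Spec B, ⊤) Γ(Limits.pullback p (Spec.map a), DB) :=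
    (sndB.appLE ⊤ DB eDBT).hom.toAlgebra
  letI algA1L : Algebra Γ(Spec A', ⊤) Γ(X', D') := (Scheme.Hom.appLE snd' ⊤ D' eDT).hom.toAlgebra
  letI algLBL : Algebra Γ(Limits.pullback p (Spec.map a), DB) Γ(X', D') :=
    ((trans p φ a b hab).appLE DB D' hDc).hom.toAlgebra
  letI algB1L : Algebra Γ(Spec B, ⊤) Γ(X', D') :=
    ((algebraMap Γ(Limits.pullback p (Spec.map a), DB) Γ(X', D')).comp
      (algebraMap Γ(Spec B, ⊤) Γ(Limits.pullback p (Spec.map a), DB))).toAlgebra
  haveI s1 : IsScalarTower Γ(Spec B, ⊤) Γ(Limits.pullback p (Spec.map a), DB) Γ(X', D') :=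
    IsScalarTower.of_algebraMap_eq' rfl
  haveI s2 : IsScalarTower Γ(Spec B, ⊤) Γ(Spec A', ⊤) Γ(X', D') :=
    IsScalarTower.of_algebraMap_eq' (congrArg CommRingCat.Hom.hom hpushD.w)
  haveI hPD : Algebra.IsPushout Γ(Spec B, ⊤) Γ(Spec A', ⊤)
      Γ(Limits.pullback p (Spec.map a), DB) Γ(X', D') := by
    apply Algebra.IsPushout.symm
    exact CommRingCat.isPushout_iff_isPushout.mp hpushD
  letI algRLB : Algebra Γ(X, U) Γ(Limits.pullback p (Spec.map a), DB) :=
    (fstB.appLE U DB eDB).hom.toAlgebra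
  haveI s3 : IsScalarTower Γ(X, U) Γ(Limits.pullback p (Spec.map a), DB) Γ(X', D') :=
    IsScalarTower.of_algebraMap_eq' (by
      change (Scheme.Hom.appLE fst' U D' eD).hom =
        ((trans p φ a b hab).appLE DB D' hDc).hom.comp (fstB.appLE U DB eDB).hom
      rw [← CommRingCat.hom_comp, trans_appLE_fst p φ a b hab U DB D' eDB hDc eD])
  letI algRBLB : Algebra Γ(Limits.pullback p (Spec.map a), WB)
      Γ(Limits.pullback p (Spec.map a), DB) :=
    ((Limits.pullback p (Spec.map a)).presheaf.map (homOfLE hDBW).op).hom.toAlgebra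
  haveI s4 : IsScalarTower Γ(X, U) Γ(Limits.pullback p (Spec.map a), WB)
      Γ(Limits.pullback p (Spec.map a), DB) :=
    IsScalarTower.of_algebraMap_eq' (by
      change (fstB.appLE U DB eDB).hom =
        ((Limits.pullback p (Spec.map a)).presheaf.map (homOfLE hDBW).op).hom.comp
          (fstB.appLE U WB hWBU).hom
      rw [← CommRingCat.hom_comp, Scheme.Hom.appLE_map])
  have hψ : ∀ y : Γ(Limits.pullback p (Spec.map a), WB),
      (IsScalarTower.toAlgHom Γ(X, U) Γ(Limits.pullback p (Spec.map a), DB) Γ(X', D'))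
        (algebraMap Γ(Limits.pullback p (Spec.map a), WB)
          Γ(Limits.pullback p (Spec.map a), DB) y) =
      algebraMap Γ(X', W') Γ(X', D') (θ y) := by
    intro y
    have h1 : (Limits.pullback p (Spec.map a)).presheaf.map (homOfLE hDBW).op ≫
        (trans p φ a b hab).appLE DB D' hDc =
        (trans p φ a b hab).appLE WB W' hWc ≫ (X').presheaf.map (homOfLE hDW).op := by
      rw [Scheme.Hom.map_appLE, Scheme.Hom.appLE_map]
    exact congr($h1 y)
  have hu : IsUnit (algebraMap Γ(Limits.pullback p (Spec.map a), WB)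
      Γ(Limits.pullback p (Spec.map a), DB) fB) := by
    haveI := hlocB
    exact IsLocalization.Away.algebraMap_isUnit fB
  obtain ⟨τB, hτB⟩ := mem_range_of_mem_Pred Γ(X, U) f θ
    (IsScalarTower.toAlgHom Γ(X, U) Γ(Limits.pullback p (Spec.map a), DB) Γ(X', D'))
    hψ hT fB hfB hu τ hτS
  have hinj : Function.Injective (algebraMap Γ(Spec B, ⊤) Γ(Spec A', ⊤)) := by
    have h1 := (Iso.inv_comp_eq _).1 (ΓSpecIso_inv_appLE_top b e'b)
    have hinv : Function.Injective (Scheme.ΓSpecIso A').inv.hom :=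
      (ConcreteCategory.bijective_of_isIso (Scheme.ΓSpecIso A').inv).1
    have hhom : Function.Injective (Scheme.ΓSpecIso B).hom.hom :=
      (ConcreteCategory.bijective_of_isIso (Scheme.ΓSpecIso B).hom).1
    change Function.Injective ((Spec.map b).appLE ⊤ ⊤ e'b).hom
    rw [h1]
    exact hinv.comp (hb.comp hhom)
  have hflatN : ∀ i, Module.Flat Γ(Spec B, ⊤)
      (Γ(Limits.pullback p (Spec.map a), DB) ⊗[Γ(X, U)] Γ(G i, U)) := by
    intro i
    have hfl := (flat_sections_iff sndB ((Scheme.Modules.pullback fstB).obj (G i)) hDB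
      (isAffineOpen_top _) eDBT).2 (fun x _ =>
        Groth.Agent.Lib.Helper22.FlatBC.isFlatOver_pullback p (Spec.map a) (G i) inferInstance
          (hG i) x)
    letI : Module Γ(Spec B, ⊤) Γ((Scheme.Modules.pullback fstB).obj (G i), DB) :=
      Module.compHom _ (sndB.appLE ⊤ DB eDBT).hom
    haveI : IsScalarTower Γ(Spec B, ⊤) Γ(Limits.pullback p (Spec.map a), DB)
        Γ((Scheme.Modules.pullback fstB).obj (G i), DB) :=
      IsScalarTower.of_algebraMap_smul fun r m => rfl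
    haveI : Module.Flat Γ(Spec B, ⊤) Γ((Scheme.Modules.pullback fstB).obj (G i), DB) := hfl
    exact Module.Flat.of_linearEquiv
      ((sectionsPullbackEquiv fstB (G i) hDB hU eDB).symm.restrictScalars Γ(Spec B, ⊤))
  have hτBi : ∀ i, LinearMap.lTensor Γ(Limits.pullback p (Spec.map a), DB) (appL (u i) U) τB
      = 0 := by
    intro i
    haveI := hflatN i
    apply rTensor_injective_of_isPushout (B := Γ(Spec B, ⊤)) (A' := Γ(Spec A', ⊤))
      (R := Γ(X, U)) (L_B := Γ(Limits.pullback p (Spec.map a), DB)) (L := Γ(X', D')) hinj Γ(G i, U)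
    rw [map_zero, ← LinearMap.comp_apply, LinearMap.rTensor_comp_lTensor,
      ← LinearMap.lTensor_comp_rTensor, LinearMap.comp_apply]
    exact (congrArg _ hτB).trans (hτ i)
  have hτB0 : τB = 0 := by
    have hs := key DB ((sectionsPullbackEquiv fstB F hDB hU eDB).symm τB) (by
      intro i
      apply (sectionsPullbackEquiv fstB (G i) hDB hU eDB).injective
      rw [sectionsPullbackEquiv_naturality, LinearEquiv.apply_symm_apply, hτBi i, map_zero])
    calc τB = (sectionsPullbackEquiv fstB F hDB hU eDB)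
          ((sectionsPullbackEquiv fstB F hDB hU eDB).symm τB) :=
            (LinearEquiv.apply_symm_apply _ _).symm
      _ = 0 := by rw [hs, map_zero]
  rw [← hτB, hτB0, map_zero]

end Groth.Agent.Lib.Helper73.SepLim
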